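import Mathlib.CategoryTheory.Localization.CalculusOfFractions
import Mathlib.CategoryTheory.Localization.Equivalence

set_option autoImplicit false

/-! A functor is a localization at the morphisms it inverts once every morphism between images is a
right fraction and equality of images is detected by precomposition with an inverted morphism. -/

universe v₁ v₂ u₁ u₂

open CategoryTheory

namespace Groth.Agent.QCohLoc72

variable {C : Type u₁} [Category.{v₁} C] {D : Type u₂} [Category.{v₂} D] (L : C ⥤ D)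

theorem isLocalization_of_fractions [L.EssSurj]
    (hfull : ∀ (A B : C) (φ : L.obj A ⟶ L.obj B), ∃ (A' : C) (s : A' ⟶ A) (f : A' ⟶ B),
      IsIso (L.map s) ∧ L.map s ≫ φ = L.map f)
    (hfaith : ∀ (A B : C) (f g : A ⟶ B), L.map f = L.map g → ∃ (A' : C) (e : A' ⟶ A),
      IsIso (L.map e) ∧ e ≫ f = e ≫ g) :
    L.IsLocalization ((MorphismProperty.isomorphisms D).inverseImage L) := by
  let W : MorphismProperty C := (MorphismProperty.isomorphisms D).inverseImage L
  have hW : W.IsInvertedBy L := fun _ _ _ hf => hf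
  haveI : W.HasRightCalculusOfFractions :=
    { exists_rightFraction := fun X Y φ => by
        haveI : IsIso (L.map φ.s) := φ.hs
        obtain ⟨A', t, g, ht, hg⟩ := hfull _ _ (L.map φ.f ≫ inv (L.map φ.s))
        have heq : L.map (t ≫ φ.f) = L.map (g ≫ φ.s) := by
          rw [L.map_comp, L.map_comp, ← hg]
          simp
        obtain ⟨A'', e, he, hef⟩ := hfaith _ _ _ _ heq
        haveI := ht
        haveI := he
        exact ⟨⟨e ≫ t, (show IsIso (L.map (e ≫ t)) by rw [L.map_comp]; infer_instance), e ≫ g⟩,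
          by simpa using hef⟩
      ext := fun X Y Y' f₁ f₂ s hs h => by
        haveI : IsIso (L.map s) := hs
        have heq : L.map f₁ = L.map f₂ := by
          rw [← cancel_mono (L.map s), ← L.map_comp, ← L.map_comp, h]
        obtain ⟨A', e, he, hef⟩ := hfaith _ _ _ _ heq
        exact ⟨A', e, he, hef⟩ }
  let Ψ : W.Localization ⥤ D := Localization.lift L hW W.Q
  let ε : W.Q ⋙ Ψ ≅ L := Localization.fac L hW W.Q
  haveI : W.Q.EssSurj := Localization.essSurj W.Q W
  haveI hes : Ψ.EssSurj :=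
    ⟨fun d => ⟨W.Q.obj (L.objPreimage d), ⟨ε.app _ ≪≫ L.objObjPreimageIso d⟩⟩⟩
  have key : ∀ (X Y : C) (g₁ g₂ : W.Q.obj X ⟶ W.Q.obj Y), Ψ.map g₁ = Ψ.map g₂ → g₁ = g₂ := by
    intro X Y g₁ g₂ h
    obtain ⟨φ, rfl⟩ := Localization.exists_rightFraction W.Q W g₁
    obtain ⟨ψ, rfl⟩ := Localization.exists_rightFraction W.Q W g₂
    obtain ⟨χ, hχ⟩ := (MorphismProperty.LeftFraction.mk (W := W) φ.s ψ.s ψ.hs).exists_rightFraction
    have hs' : W (χ.s ≫ φ.s) := W.comp_mem _ _ χ.hs φ.hs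
    haveI : IsIso (W.Q.map (χ.s ≫ φ.s)) := Localization.inverts W.Q W _ hs'
    have h₁ : W.Q.map (χ.s ≫ φ.s) ≫ φ.map W.Q (Localization.inverts W.Q W) =
        W.Q.map (χ.s ≫ φ.f) := by
      rw [Functor.map_comp, Functor.map_comp, Category.assoc,
        MorphismProperty.RightFraction.map_s_comp_map]
    have h₂ : W.Q.map (χ.s ≫ φ.s) ≫ ψ.map W.Q (Localization.inverts W.Q W) =
        W.Q.map (χ.f ≫ ψ.f) := by
      rw [show χ.s ≫ φ.s = χ.f ≫ ψ.s from hχ, Functor.map_comp, Functor.map_comp, Category.assoc,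
        MorphismProperty.RightFraction.map_s_comp_map]
    have e : L.map (χ.s ≫ φ.f) = L.map (χ.f ≫ ψ.f) := by
      rw [← NatIso.naturality_1 ε (χ.s ≫ φ.f), ← NatIso.naturality_1 ε (χ.f ≫ ψ.f)]
      dsimp only [Functor.comp_map]
      rw [← h₁, ← h₂, Functor.map_comp Ψ, h, ← Functor.map_comp Ψ]
    obtain ⟨A', t, ht, htf⟩ := hfaith _ _ _ _ e
    haveI : IsIso (W.Q.map t) := Localization.inverts W.Q W _ ht
    rw [← cancel_epi (W.Q.map (χ.s ≫ φ.s)), ← cancel_epi (W.Q.map t), h₁, h₂,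
      ← Functor.map_comp, ← Functor.map_comp, htf]
  haveI : Ψ.Faithful := ⟨fun {X Y g₁ g₂} h => by
    rw [← cancel_epi (W.Q.objObjPreimageIso X).hom, ← cancel_mono (W.Q.objObjPreimageIso Y).inv]
    exact key _ _ _ _ (by simp only [Functor.map_comp, h])⟩
  have keyf : ∀ (X Y : C) (φ : Ψ.obj (W.Q.obj X) ⟶ Ψ.obj (W.Q.obj Y)),
      ∃ g, Ψ.map g = φ := by
    intro X Y φ
    obtain ⟨A', s, f, hs, hf⟩ := hfull _ _ (ε.inv.app X ≫ φ ≫ ε.hom.app Y)
    haveI : IsIso (W.Q.map s) := Localization.inverts W.Q W _ hs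
    refine ⟨inv (W.Q.map s) ≫ W.Q.map f, ?_⟩
    rw [Functor.map_comp, Functor.map_inv, IsIso.inv_comp_eq]
    have es := ε.hom.naturality s
    have ef := ε.hom.naturality f
    dsimp only [Functor.comp_map] at es ef
    rw [← cancel_mono (ε.hom.app Y), ef, ← hf, ← reassoc_of% es, Category.assoc,
      Iso.hom_inv_id_app_assoc]
  haveI : Ψ.Full := ⟨fun {X Y} φ => by
    obtain ⟨g, hg⟩ := keyf _ _ (Ψ.map (W.Q.objObjPreimageIso X).hom ≫ φ ≫
      Ψ.map (W.Q.objObjPreimageIso Y).inv)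
    refine ⟨(W.Q.objObjPreimageIso X).inv ≫ g ≫ (W.Q.objObjPreimageIso Y).hom, ?_⟩
    simp [hg]⟩
  haveI : Ψ.IsEquivalence := { }
  exact Functor.IsLocalization.of_equivalence_target W.Q W L Ψ.asEquivalence ε

end Groth.Agent.QCohLoc72
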