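import Groth.Agent.QC70.ExtZero
import Groth.Agent.QC70.CohOps

set_option autoImplicit false
set_option backward.isDefEq.respectTransparency.types false

/-! Morphisms inverted by restriction to an open. -/

noncomputable section

universe u

open CategoryTheory Limits AlgebraicGeometry TopologicalSpace Opposite

namespace Groth.Agent.QCohLoc72

open QC70

variable {X : Scheme.{u}} {M N : X.Modules}

lemma bijective_stalkMapM_iff (f : M ⟶ N) (x : X) :
    Function.Bijective (stalkMapM f x) ↔
      x ∉ CohB1.support (kernel f) ∧ x ∉ CohB1.support (cokernel f) := by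
  refine ⟨fun h => ⟨notMem_support_iff.mpr (subsingleton_stalk_kernel f x h.1),
    notMem_support_iff.mpr (subsingleton_stalk_cokernel f x h.2)⟩, fun ⟨hk, hc⟩ => ⟨?_, ?_⟩⟩
  · have hk' := notMem_support_iff.mp hk
    refine (injective_iff_map_eq_zero (stalkLinear f x)).mpr fun e he => ?_
    let S : ShortComplex X.Modules := ShortComplex.mk (kernel.ι f) f (kernel.condition f)
    haveI : Mono S.f := (inferInstance : Mono (kernel.ι f))
    obtain ⟨d, rfl⟩ := stalkMapM_exact S
      (ShortComplex.exact_of_f_is_kernel _ (kernelIsKernel f)) x e he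
    rw [hk'.elim d 0]
    exact map_zero (stalkLinear (kernel.ι f) x)
  · have hc' := notMem_support_iff.mp hc
    intro e
    let S : ShortComplex X.Modules :=
      ShortComplex.mk (kernel.ι (cokernel.π f)) (cokernel.π f) (kernel.condition _)
    haveI : Mono S.f := (inferInstance : Mono (kernel.ι (cokernel.π f)))
    obtain ⟨d, hd⟩ := stalkMapM_exact S
      (ShortComplex.exact_of_f_is_kernel _ (kernelIsKernel _)) x e (hc'.elim _ _)
    obtain ⟨d', rfl⟩ := surjective_stalkMapM_of_epi (Abelian.factorThruImage f) x d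
    refine ⟨d', ?_⟩
    rw [← hd, ← stalkMapM_comp]
    exact congrArg (fun g => stalkMapM g x d') (Abelian.image.fac f).symm

theorem isIso_restrict_map_iff (U : X.Opens) (f : M ⟶ N) :
    IsIso ((Scheme.Modules.restrictFunctor U.ι).map f) ↔
      CohB1.support (kernel f) ⊆ (↑U : Set X)ᶜ ∧ CohB1.support (cokernel f) ⊆ (↑U : Set X)ᶜ := by
  constructor
  · intro h
    have hb : ∀ x : X, x ∈ U →
        x ∉ CohB1.support (kernel f) ∧ x ∉ CohB1.support (cokernel f) := fun x hx =>
      (bijective_stalkMapM_iff f x).mp ((bijective_stalkMapM_restrict_iff U.ι f ⟨x, hx⟩).mp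
        (bijective_stalkMapM_of_isIso _ _))
    exact ⟨fun x hx hxU => (hb x hxU).1 hx, fun x hx hxU => (hb x hxU).2 hx⟩
  · rintro ⟨hk, hc⟩
    refine isIso_of_bijective_stalkMapM _ fun u =>
      (bijective_stalkMapM_restrict_iff U.ι f u).mpr ((bijective_stalkMapM_iff f _).mpr ?_)
    exact ⟨fun h => hk h u.2, fun h => hc h u.2⟩

end Groth.Agent.QCohLoc72
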